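import Mathlib

/-!
# Tables for `G₂(3)` on its seven-dimensional algebra
-/

set_option autoImplicit false

namespace Cfsg.Agent.KnownA.G23

/-- matrices over `ℤ/3` -/
abbrev M3 : Type := Matrix (Fin 7) (Fin 7) (ZMod 3)

/-- structure constants of the short root ideal, as adjoint matrices -/
def cT : Fin 7 → M3 := fun k => Matrix.of ((![![![0, 0, 0, 1, 0, 0, 0], ![0, 0, 0, 0, 1, 0, 0], ![0, 0, 0, 0, 0, 2, 0], ![0, 0, 0, 0, 0, 0, 1], ![0, 0, 0, 0, 0, 0, 0], ![0, 0, 0, 0, 0, 0, 0], ![0, 0, 0, 0, 0, 0, 0]],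
    ![![0, 0, 1, 0, 0, 0, 0], ![0, 0, 0, 2, 0, 0, 0], ![0, 0, 0, 0, 0, 0, 0], ![0, 0, 0, 0, 0, 2, 0], ![0, 0, 0, 0, 0, 0, 2], ![0, 0, 0, 0, 0, 0, 0], ![0, 0, 0, 0, 0, 0, 0]],
    ![![0, 2, 0, 0, 0, 0, 0], ![0, 0, 0, 0, 0, 0, 0], ![0, 0, 0, 2, 0, 0, 0], ![0, 0, 0, 0, 2, 0, 0], ![0, 0, 0, 0, 0, 0, 0], ![0, 0, 0, 0, 0, 0, 1], ![0, 0, 0, 0, 0, 0, 0]],
    ![![2, 0, 0, 0, 0, 0, 0], ![0, 1, 0, 0, 0, 0, 0], ![0, 0, 1, 0, 0, 0, 0], ![0, 0, 0, 0, 0, 0, 0], ![0, 0, 0, 0, 2, 0, 0], ![0, 0, 0, 0, 0, 2, 0], ![0, 0, 0, 0, 0, 0, 1]],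
    ![![0, 0, 0, 0, 0, 0, 0], ![2, 0, 0, 0, 0, 0, 0], ![0, 0, 0, 0, 0, 0, 0], ![0, 0, 1, 0, 0, 0, 0], ![0, 0, 0, 1, 0, 0, 0], ![0, 0, 0, 0, 0, 0, 0], ![0, 0, 0, 0, 0, 1, 0]],
    ![![0, 0, 0, 0, 0, 0, 0], ![0, 0, 0, 0, 0, 0, 0], ![1, 0, 0, 0, 0, 0, 0], ![0, 1, 0, 0, 0, 0, 0], ![0, 0, 0, 0, 0, 0, 0], ![0, 0, 0, 1, 0, 0, 0], ![0, 0, 0, 0, 2, 0, 0]],
    ![![0, 0, 0, 0, 0, 0, 0], ![0, 0, 0, 0, 0, 0, 0], ![0, 0, 0, 0, 0, 0, 0], ![2, 0, 0, 0, 0, 0, 0], ![0, 1, 0, 0, 0, 0, 0], ![0, 0, 2, 0, 0, 0, 0], ![0, 0, 0, 2, 0, 0, 0]]] : Fin 7 → Fin 7 → Fin 7 → ZMod 3) k)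

/-- the root elements with parameter one -/
def gT : Fin 12 → M3 := fun k => Matrix.of ((![![![1, 0, 0, 0, 0, 1, 0], ![0, 1, 0, 0, 0, 0, 2], ![0, 0, 1, 0, 0, 0, 0], ![0, 0, 0, 1, 0, 0, 0], ![0, 0, 0, 0, 1, 0, 0], ![0, 0, 0, 0, 0, 1, 0], ![0, 0, 0, 0, 0, 0, 1]],
    ![![1, 0, 0, 0, 1, 0, 0], ![0, 1, 0, 0, 0, 0, 0], ![0, 0, 1, 0, 0, 0, 2], ![0, 0, 0, 1, 0, 0, 0], ![0, 0, 0, 0, 1, 0, 0], ![0, 0, 0, 0, 0, 1, 0], ![0, 0, 0, 0, 0, 0, 1]],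
    ![![1, 0, 0, 1, 0, 0, 2], ![0, 1, 0, 0, 1, 0, 0], ![0, 0, 1, 0, 0, 2, 0], ![0, 0, 0, 1, 0, 0, 1], ![0, 0, 0, 0, 1, 0, 0], ![0, 0, 0, 0, 0, 1, 0], ![0, 0, 0, 0, 0, 0, 1]],
    ![![1, 0, 1, 0, 0, 0, 0], ![0, 1, 0, 2, 0, 2, 0], ![0, 0, 1, 0, 0, 0, 0], ![0, 0, 0, 1, 0, 2, 0], ![0, 0, 0, 0, 1, 0, 2], ![0, 0, 0, 0, 0, 1, 0], ![0, 0, 0, 0, 0, 0, 1]],
    ![![1, 2, 0, 0, 0, 0, 0], ![0, 1, 0, 0, 0, 0, 0], ![0, 0, 1, 2, 2, 0, 0], ![0, 0, 0, 1, 2, 0, 0], ![0, 0, 0, 0, 1, 0, 0], ![0, 0, 0, 0, 0, 1, 1], ![0, 0, 0, 0, 0, 0, 1]],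
    ![![1, 0, 0, 0, 0, 0, 0], ![0, 1, 2, 0, 0, 0, 0], ![0, 0, 1, 0, 0, 0, 0], ![0, 0, 0, 1, 0, 0, 0], ![0, 0, 0, 0, 1, 1, 0], ![0, 0, 0, 0, 0, 1, 0], ![0, 0, 0, 0, 0, 0, 1]],
    ![![1, 0, 0, 0, 0, 0, 0], ![0, 1, 0, 0, 0, 0, 0], ![0, 2, 1, 0, 0, 0, 0], ![0, 0, 0, 1, 0, 0, 0], ![0, 0, 0, 0, 1, 0, 0], ![0, 0, 0, 0, 1, 1, 0], ![0, 0, 0, 0, 0, 0, 1]],
    ![![1, 0, 0, 0, 0, 0, 0], ![2, 1, 0, 0, 0, 0, 0], ![0, 0, 1, 0, 0, 0, 0], ![0, 0, 1, 1, 0, 0, 0], ![0, 0, 2, 1, 1, 0, 0], ![0, 0, 0, 0, 0, 1, 0], ![0, 0, 0, 0, 0, 1, 1]],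
    ![![1, 0, 0, 0, 0, 0, 0], ![0, 1, 0, 0, 0, 0, 0], ![1, 0, 1, 0, 0, 0, 0], ![0, 1, 0, 1, 0, 0, 0], ![0, 0, 0, 0, 1, 0, 0], ![0, 2, 0, 1, 0, 1, 0], ![0, 0, 0, 0, 2, 0, 1]],
    ![![1, 0, 0, 0, 0, 0, 0], ![0, 1, 0, 0, 0, 0, 0], ![0, 0, 1, 0, 0, 0, 0], ![2, 0, 0, 1, 0, 0, 0], ![0, 1, 0, 0, 1, 0, 0], ![0, 0, 2, 0, 0, 1, 0], ![2, 0, 0, 2, 0, 0, 1]],
    ![![1, 0, 0, 0, 0, 0, 0], ![0, 1, 0, 0, 0, 0, 0], ![0, 0, 1, 0, 0, 0, 0], ![0, 0, 0, 1, 0, 0, 0], ![1, 0, 0, 0, 1, 0, 0], ![0, 0, 0, 0, 0, 1, 0], ![0, 0, 2, 0, 0, 0, 1]],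
    ![![1, 0, 0, 0, 0, 0, 0], ![0, 1, 0, 0, 0, 0, 0], ![0, 0, 1, 0, 0, 0, 0], ![0, 0, 0, 1, 0, 0, 0], ![0, 0, 0, 0, 1, 0, 0], ![1, 0, 0, 0, 0, 1, 0], ![0, 2, 0, 0, 0, 0, 1]]] : Fin 12 → Fin 7 → Fin 7 → ZMod 3) k)

/-- an element of order 6 -/
def x6 : M3 := Matrix.of ![![0, 0, 0, 0, 0, 2, 0], ![0, 0, 0, 0, 0, 0, 1], ![0, 0, 1, 0, 0, 0, 0], ![0, 0, 0, 1, 0, 0, 0], ![0, 0, 0, 0, 1, 0, 0], ![1, 0, 0, 0, 0, 1, 0], ![0, 2, 0, 0, 0, 0, 1]]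

/-- an element of order 7 -/
def x7 : M3 := Matrix.of ![![2, 1, 1, 0, 1, 1, 2], ![2, 2, 0, 2, 0, 2, 2], ![0, 1, 1, 0, 0, 0, 2], ![2, 0, 0, 1, 0, 2, 0], ![0, 1, 0, 0, 1, 0, 2], ![1, 0, 0, 0, 0, 1, 0], ![0, 2, 0, 0, 0, 0, 1]]

/-- a cyclic vector for the element of order 7 -/
def v7 : Fin 7 → ZMod 3 :=
  ![1, 2, 1, 0, 0, 1, 0]

/-- the inverse of the Krylov matrix for order 7 -/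
def u7 : M3 := Matrix.of ![![0, 1, 0, 0, 1, 2, 1], ![1, 2, 2, 2, 0, 2, 0], ![2, 2, 0, 1, 1, 0, 2], ![2, 1, 1, 2, 2, 1, 2], ![1, 0, 0, 2, 1, 2, 1], ![2, 1, 1, 0, 2, 1, 1], ![1, 2, 0, 2, 1, 1, 2]]

/-- projection to the Frobenius fixed coefficients for order 7 -/
def k7 : Matrix (Fin 2) (Fin 7) (ZMod 3) := Matrix.of ![![1, 0, 0, 0, 0, 0, 0], ![0, 0, 0, 0, 0, 0, 1]]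

/-- Frobenius fixed coefficient vectors for order 7 -/
def e7 : Matrix (Fin 7) (Fin 2) (ZMod 3) := Matrix.of ![![1, 0], ![0, 1], ![0, 1], ![0, 1], ![0, 1], ![0, 1], ![0, 1]]

/-- witness for the Frobenius fixed space for order 7 -/
def l7 : M3 := Matrix.of ![![0, 0, 0, 0, 0, 0, 0], ![0, 2, 0, 0, 2, 2, 0], ![0, 2, 2, 2, 2, 2, 0], ![0, 2, 0, 2, 2, 2, 0], ![0, 0, 0, 0, 2, 0, 0], ![0, 0, 0, 0, 2, 2, 0], ![0, 0, 0, 0, 0, 0, 0]]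

/-- the Frobenius map on coefficients for order 7 -/
def n7 : M3 := Matrix.of ![![1, 0, 0, 0, 0, 0, 0], ![0, 0, 0, 0, 0, 1, 0], ![0, 0, 0, 1, 0, 0, 0], ![0, 1, 0, 0, 0, 0, 0], ![0, 0, 0, 0, 0, 0, 1], ![0, 0, 0, 0, 1, 0, 0], ![0, 0, 1, 0, 0, 0, 0]]

/-- the fixed elements for order 7 -/
def p7 : Fin 2 → M3 := fun k => Matrix.of ((![![![1, 0, 0, 0, 0, 0, 0], ![0, 1, 0, 0, 0, 0, 0], ![0, 0, 1, 0, 0, 0, 0], ![0, 0, 0, 1, 0, 0, 0], ![0, 0, 0, 0, 1, 0, 0], ![0, 0, 0, 0, 0, 1, 0], ![0, 0, 0, 0, 0, 0, 1]],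
    ![![2, 0, 0, 0, 0, 0, 0], ![0, 2, 0, 0, 0, 0, 0], ![0, 0, 1, 0, 1, 0, 0], ![0, 0, 0, 2, 0, 0, 0], ![0, 0, 1, 0, 1, 0, 0], ![0, 0, 0, 0, 0, 2, 0], ![0, 0, 0, 0, 0, 0, 2]]] : Fin 2 → Fin 7 → Fin 7 → ZMod 3) k)

/-- an element of order 13 -/
def x13 : M3 := Matrix.of ![![0, 2, 2, 2, 0, 1, 1], ![1, 1, 0, 1, 0, 0, 2], ![1, 2, 1, 2, 2, 0, 0], ![2, 2, 0, 1, 2, 0, 0], ![0, 1, 0, 0, 1, 0, 0], ![2, 0, 2, 2, 0, 1, 1], ![2, 0, 0, 2, 0, 0, 1]]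

/-- a cyclic vector for the element of order 13 -/
def v13 : Fin 7 → ZMod 3 :=
  ![1, 1, 2, 0, 2, 1, 1]

/-- the inverse of the Krylov matrix for order 13 -/
def u13 : M3 := Matrix.of ![![1, 0, 0, 1, 1, 1, 0], ![2, 1, 1, 2, 1, 2, 0], ![2, 1, 0, 0, 1, 2, 2], ![1, 0, 2, 2, 2, 0, 0], ![2, 1, 2, 0, 1, 2, 1], ![0, 1, 1, 1, 0, 0, 0], ![1, 2, 1, 2, 0, 2, 2]]

/-- projection to the Frobenius fixed coefficients for order 13 -/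
def k13 : Matrix (Fin 3) (Fin 7) (ZMod 3) := Matrix.of ![![1, 0, 0, 0, 0, 0, 0], ![0, 0, 0, 0, 1, 0, 0], ![0, 0, 0, 0, 0, 0, 1]]

/-- Frobenius fixed coefficient vectors for order 13 -/
def e13 : Matrix (Fin 7) (Fin 3) (ZMod 3) := Matrix.of ![![1, 0, 0], ![0, 2, 0], ![0, 2, 1], ![0, 0, 0], ![0, 1, 0], ![0, 0, 1], ![0, 0, 1]]

/-- witness for the Frobenius fixed space for order 13 -/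
def l13 : M3 := Matrix.of ![![0, 0, 0, 0, 0, 0, 0], ![0, 2, 0, 0, 0, 0, 0], ![1, 0, 2, 0, 0, 2, 0], ![2, 0, 0, 0, 0, 0, 0], ![0, 0, 0, 0, 0, 0, 0], ![1, 0, 0, 0, 0, 2, 0], ![0, 0, 0, 0, 0, 0, 0]]

/-- the Frobenius map on coefficients for order 13 -/
def n13 : M3 := Matrix.of ![![1, 0, 0, 2, 0, 0, 0], ![0, 0, 0, 0, 2, 0, 0], ![0, 0, 0, 0, 2, 1, 0], ![0, 1, 0, 2, 1, 0, 0], ![0, 0, 0, 2, 1, 0, 0], ![0, 0, 0, 2, 0, 0, 1], ![0, 0, 1, 2, 1, 0, 0]]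

/-- the fixed elements for order 13 -/
def p13 : Fin 3 → M3 := fun k => Matrix.of ((![![![1, 0, 0, 0, 0, 0, 0], ![0, 1, 0, 0, 0, 0, 0], ![0, 0, 1, 0, 0, 0, 0], ![0, 0, 0, 1, 0, 0, 0], ![0, 0, 0, 0, 1, 0, 0], ![0, 0, 0, 0, 0, 1, 0], ![0, 0, 0, 0, 0, 0, 1]],
    ![![2, 0, 1, 0, 0, 0, 2], ![1, 0, 0, 0, 1, 0, 0], ![0, 0, 0, 0, 0, 2, 0], ![0, 0, 1, 2, 0, 0, 2], ![0, 0, 2, 0, 2, 0, 1], ![0, 0, 0, 0, 0, 2, 0], ![0, 0, 0, 0, 0, 2, 0]],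
    ![![1, 0, 0, 1, 0, 0, 0], ![1, 2, 0, 0, 1, 0, 0], ![0, 0, 2, 0, 0, 2, 0], ![0, 0, 2, 0, 0, 0, 1], ![0, 0, 0, 2, 1, 0, 0], ![0, 0, 0, 0, 0, 1, 0], ![0, 0, 0, 0, 0, 2, 2]]] : Fin 3 → Fin 7 → Fin 7 → ZMod 3) k)

/-- orbit of the cyclic vector for order 7 -/
def w7 : Fin 19 → Fin 7 → ZMod 3 :=
  ![![1, 2, 1, 0, 0, 1, 0],
    ![0, 2, 0, 1, 2, 2, 1],
    ![2, 0, 1, 2, 0, 2, 2],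
    ![2, 1, 2, 1, 1, 1, 2],
    ![1, 2, 1, 1, 0, 0, 1],
    ![1, 1, 2, 0, 1, 1, 2],
    ![2, 1, 1, 1, 0, 2, 1],
    ![1, 2, 1, 0, 0, 1, 0],
    ![0, 2, 0, 1, 2, 2, 1],
    ![2, 0, 1, 2, 0, 2, 2],
    ![2, 1, 2, 1, 1, 1, 2],
    ![1, 2, 1, 1, 0, 0, 1],
    ![1, 1, 2, 0, 1, 1, 2],
    ![2, 1, 1, 1, 0, 2, 1],
    ![1, 2, 1, 0, 0, 1, 0],
    ![0, 2, 0, 1, 2, 2, 1],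
    ![2, 0, 1, 2, 0, 2, 2],
    ![2, 1, 2, 1, 1, 1, 2],
    ![1, 2, 1, 1, 0, 0, 1]]

/-- powers of the element of order 7 -/
def q7 : Fin 7 → M3 := fun k => Matrix.of ((![![![1, 0, 0, 0, 0, 0, 0], ![0, 1, 0, 0, 0, 0, 0], ![0, 0, 1, 0, 0, 0, 0], ![0, 0, 0, 1, 0, 0, 0], ![0, 0, 0, 0, 1, 0, 0], ![0, 0, 0, 0, 0, 1, 0], ![0, 0, 0, 0, 0, 0, 1]],
    ![![2, 1, 1, 0, 1, 1, 2], ![2, 2, 0, 2, 0, 2, 2], ![0, 1, 1, 0, 0, 0, 2], ![2, 0, 0, 1, 0, 2, 0], ![0, 1, 0, 0, 1, 0, 2], ![1, 0, 0, 0, 0, 1, 0], ![0, 2, 0, 0, 0, 0, 1]],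
    ![![1, 1, 0, 2, 0, 2, 0], ![2, 1, 2, 0, 2, 0, 1], ![2, 1, 1, 2, 0, 2, 0], ![2, 2, 2, 1, 2, 0, 1], ![2, 1, 0, 2, 1, 2, 0], ![0, 1, 1, 0, 1, 2, 2], ![1, 0, 0, 1, 0, 1, 2]],
    ![![1, 0, 1, 1, 1, 0, 1], ![0, 1, 1, 2, 1, 1, 0], ![0, 2, 0, 1, 2, 1, 2], ![1, 0, 1, 2, 1, 2, 2], ![0, 2, 2, 1, 0, 1, 2], ![1, 2, 1, 2, 1, 1, 2], ![2, 2, 1, 1, 1, 1, 1]],
    ![![1, 2, 2, 1, 2, 0, 1], ![1, 1, 1, 1, 1, 1, 0], ![1, 1, 0, 2, 2, 1, 1], ![2, 1, 2, 2, 2, 1, 2], ![1, 1, 2, 2, 0, 1, 1], ![2, 2, 2, 0, 2, 1, 0], ![2, 1, 0, 2, 0, 0, 1]],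
    ![![2, 2, 0, 2, 0, 1, 0], ![1, 2, 2, 0, 2, 0, 2], ![0, 1, 1, 1, 0, 2, 0], ![2, 0, 1, 1, 1, 0, 1], ![0, 1, 0, 1, 1, 2, 0], ![0, 1, 1, 1, 1, 1, 1], ![1, 0, 2, 1, 2, 2, 1]],
    ![![1, 0, 2, 0, 2, 2, 2], ![0, 1, 0, 1, 0, 2, 1], ![0, 0, 1, 0, 0, 0, 1], ![0, 0, 0, 1, 0, 1, 0], ![0, 0, 0, 0, 1, 0, 1], ![2, 0, 1, 0, 1, 2, 1], ![0, 1, 0, 1, 0, 2, 2]]] : Fin 7 → Fin 7 → Fin 7 → ZMod 3) k)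

/-- orbit of the cyclic vector for order 13 -/
def w13 : Fin 19 → Fin 7 → ZMod 3 :=
  ![![1, 1, 2, 0, 2, 1, 1],
    ![2, 1, 0, 2, 0, 2, 0],
    ![2, 2, 2, 2, 1, 1, 2],
    ![0, 1, 2, 0, 0, 0, 1],
    ![1, 0, 1, 2, 1, 2, 1],
    ![0, 2, 2, 0, 1, 2, 1],
    ![2, 1, 2, 0, 0, 1, 1],
    ![2, 2, 0, 0, 1, 1, 2],
    ![1, 2, 2, 1, 0, 1, 0],
    ![2, 1, 0, 1, 2, 0, 1],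
    ![2, 0, 1, 2, 0, 1, 1],
    ![2, 0, 1, 0, 0, 0, 0],
    ![2, 2, 0, 1, 0, 0, 1],
    ![1, 1, 2, 0, 2, 1, 1],
    ![2, 1, 0, 2, 0, 2, 0],
    ![2, 2, 2, 2, 1, 1, 2],
    ![0, 1, 2, 0, 0, 0, 1],
    ![1, 0, 1, 2, 1, 2, 1],
    ![0, 2, 2, 0, 1, 2, 1]]

/-- powers of the element of order 13 -/
def q13 : Fin 7 → M3 := fun k => Matrix.of ((![![![1, 0, 0, 0, 0, 0, 0], ![0, 1, 0, 0, 0, 0, 0], ![0, 0, 1, 0, 0, 0, 0], ![0, 0, 0, 1, 0, 0, 0], ![0, 0, 0, 0, 1, 0, 0], ![0, 0, 0, 0, 0, 1, 0], ![0, 0, 0, 0, 0, 0, 1]],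
    ![![0, 2, 2, 2, 0, 1, 1], ![1, 1, 0, 1, 0, 0, 2], ![1, 2, 1, 2, 2, 0, 0], ![2, 2, 0, 1, 2, 0, 0], ![0, 1, 0, 0, 1, 0, 0], ![2, 0, 2, 2, 0, 1, 1], ![2, 0, 0, 2, 0, 0, 1]],
    ![![0, 1, 1, 0, 2, 1, 0], ![1, 2, 2, 2, 2, 1, 2], ![1, 0, 0, 2, 2, 1, 2], ![1, 1, 1, 1, 1, 2, 0], ![1, 2, 0, 1, 1, 0, 2], ![1, 0, 2, 2, 2, 0, 1], ![0, 2, 1, 2, 1, 2, 0]],
    ![![1, 2, 0, 2, 1, 1, 0], ![2, 2, 0, 1, 1, 2, 2], ![1, 2, 1, 1, 0, 2, 1], ![2, 2, 1, 1, 2, 0, 2], ![2, 1, 2, 0, 0, 1, 1], ![2, 0, 1, 1, 1, 1, 2], ![2, 0, 2, 1, 1, 2, 0]],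
    ![![2, 0, 1, 2, 2, 2, 0], ![0, 0, 2, 0, 0, 1, 1], ![2, 2, 1, 1, 1, 0, 2], ![0, 0, 2, 1, 0, 2, 2], ![1, 0, 2, 1, 1, 0, 0], ![0, 0, 1, 1, 2, 0, 2], ![2, 2, 1, 1, 1, 1, 1]],
    ![![0, 0, 0, 0, 2, 1, 1], ![0, 1, 1, 2, 1, 1, 2], ![0, 2, 2, 1, 2, 2, 2], ![0, 0, 0, 1, 0, 2, 1], ![1, 0, 1, 1, 1, 1, 1], ![1, 0, 1, 1, 0, 0, 2], ![0, 2, 1, 1, 2, 0, 2]],
    ![![1, 2, 2, 1, 2, 1, 2], ![0, 2, 0, 2, 1, 1, 2], ![2, 1, 0, 0, 2, 2, 2], ![2, 2, 1, 1, 2, 2, 0], ![1, 1, 2, 0, 2, 2, 0], ![1, 0, 0, 0, 1, 1, 0], ![0, 2, 1, 0, 0, 0, 0]]] : Fin 7 → Fin 7 → Fin 7 → ZMod 3) k)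

end Cfsg.Agent.KnownA.G23
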